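import Groth.Prelude.Def_Pi1X
import Mathlib.CategoryTheory.Galois.EssSurj
import Mathlib.CategoryTheory.Galois.Equivalence
import Mathlib.CategoryTheory.Limits.Shapes.SingleObj

set_option autoImplicit false

/-!
# Galois categories: fibres, subgroups and quotients
-/

universe u v w

open CategoryTheory CategoryTheory.Limits CategoryTheory.PreGaloisCategory

namespace GrothLib.GalCat21

section Helpers

variable {C : Type u} [Category.{v} C]

theorem map_comp' (F : C ⥤ FintypeCat.{w}) {X Y Z : C} (f : X ⟶ Y) (g : Y ⟶ Z) (x : F.obj X) :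
    F.map (f ≫ g) x = F.map g (F.map f x) := by
  rw [F.map_comp]; rfl

theorem exists_rep {J : Type*} [Category J] (F : C ⥤ FintypeCat.{w}) (K : J ⥤ C) [HasColimit K]
    [PreservesColimit K (F ⋙ FintypeCat.incl)] (x : F.obj (colimit K)) :
    ∃ (j : J) (y : F.obj (K.obj j)), F.map (colimit.ι K j) y = x :=
  Types.jointly_surjective _ (isColimitOfPreserves (F ⋙ FintypeCat.incl) (colimit.isColimit K)) x

end Helpers

section One

variable {C : Type u} [Category.{v} C] [GaloisCategory C] (F : C ⥤ FintypeCat.{w}) [FiberFunctor F]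

theorem smul_def {X : C} (σ : Aut F) (x : F.obj X) : σ • x = σ.hom.app X x := rfl

theorem map_smul {X Y : C} (f : X ⟶ Y) (σ : Aut F) (x : F.obj X) : F.map f (σ • x) = σ • F.map f x :=
  (mulAction_naturality F σ f x).symm

/-- A morphism is an isomorphism if it is bijective on the fibre. -/
theorem isIso_of_bijective {X Y : C} (f : X ⟶ Y) (h : Function.Bijective (F.map f)) : IsIso f := by
  have : IsIso (F.map f) := (ConcreteCategory.isIso_iff_bijective _).2 h
  exact isIso_of_reflects_iso f F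

theorem mono_injective {X Y : C} (f : X ⟶ Y) [Mono f] : Function.Injective (F.map f) :=
  ConcreteCategory.injective_of_mono_of_preservesPullback (F.map f)

theorem mono_of_injective {X Y : C} (f : X ⟶ Y) (h : Function.Injective (F.map f)) : Mono f :=
  have : Mono (F.map f) := ConcreteCategory.mono_of_injective _ h
  F.mono_of_mono_map this

theorem epi_of_surjective {X Y : C} (f : X ⟶ Y) (h : Function.Surjective (F.map f)) : Epi f :=
  have : Epi (F.map f) := ConcreteCategory.epi_of_surjective _ h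
  F.epi_of_epi_map this

/-- An equivariant map of fibres is induced by a morphism. -/
theorem exists_map_eq {X Y : C} (φ : F.obj X → F.obj Y) (h : ∀ (σ : Aut F) (x : F.obj X), φ (σ • x) = σ • φ x) :
    ∃ f : X ⟶ Y, ∀ x, F.map f x = φ x := by
  let g : (functorToAction F).obj X ⟶ (functorToAction F).obj Y :=
    { hom := FintypeCat.homMk φ
      comm := fun σ => by
        ext (x : F.obj X)
        exact h σ x }
  obtain ⟨f, hf⟩ := (functorToAction F).map_surjective g
  exact ⟨f, fun x => by rw [← functorToAction_map, hf]; rfl⟩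

/-- Equality of morphisms can be checked on fibres. -/
theorem hom_ext {X Y : C} (f g : X ⟶ Y) (h : ∀ x, F.map f x = F.map g x) : f = g := by
  refine F.map_injective ?_
  ext x
  exact h x

/-- Transitive action on a non-empty fibre implies connectedness. -/
theorem isConnected_of_transitive (X : C) [Nonempty (F.obj X)] [MulAction.IsPretransitive (Aut F) (F.obj X)] :
    IsConnected X where
  notInitial h := not_initial_of_inhabited F (Classical.arbitrary (F.obj X)) h
  noTrivialComponent Y i _ hY := by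
    refine isIso_of_bijective F i ⟨mono_injective F i, fun x => ?_⟩
    obtain ⟨y⟩ := (not_initial_iff_fiber_nonempty F Y).1 hY
    obtain ⟨σ, hσ⟩ := MulAction.exists_smul_eq (Aut F) (F.map i y) x
    exact ⟨σ • y, by rw [map_smul, hσ]⟩

/-- The orbit of a point is the fibre of its connected component. -/
theorem exists_component (X : C) (x : F.obj X) :
    ∃ (Y : C) (i : Y ⟶ X) (y : F.obj Y), IsConnected Y ∧ Mono i ∧ F.map i y = x ∧
      Set.range (F.map i) = MulAction.orbit (Aut F) x := by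
  obtain ⟨Y, i, y, hy, hc, hm⟩ := fiber_in_connected_component F X x
  refine ⟨Y, i, y, hc, hm, hy, Set.ext fun z => ⟨?_, ?_⟩⟩
  · rintro ⟨z, rfl⟩
    obtain ⟨σ, rfl⟩ := MulAction.exists_smul_eq (Aut F) y z
    exact ⟨σ, by simp only [map_smul, hy]⟩
  · rintro ⟨σ, rfl⟩
    exact ⟨σ • y, by simp only [map_smul, hy]⟩

noncomputable instance : Unique (F.obj (⊤_ C)) :=
  haveI : PreservesLimitsOfShape (Discrete PEmpty.{1}) (F ⋙ FintypeCat.incl) := inferInstance
  (Types.isTerminalEquivUnique _).toFun (IsTerminal.isTerminalObj (F ⋙ FintypeCat.incl) _ terminalIsTerminal)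

theorem subsingleton_top (s t : F.obj (⊤_ C)) : s = t := Subsingleton.elim _ _

/-- A point is fixed by the whole group iff it comes from a section. -/
theorem fixed_iff_section {X : C} (a : F.obj X) :
    (∀ σ : Aut F, σ • a = a) ↔ ∃ s : ⊤_ C ⟶ X, ∀ t : F.obj (⊤_ C), F.map s t = a := by
  constructor
  · intro h
    obtain ⟨s, hs⟩ := exists_map_eq F (X := ⊤_ C) (Y := X) (fun _ => a) fun σ _ => (h σ).symm
    exact ⟨s, hs⟩
  · rintro ⟨s, hs⟩ σ
    rw [← hs default, ← map_smul, subsingleton_top F (σ • default) default]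

/-- The action on a fibre is trivial iff the object is a finite sum of terminal objects. -/
theorem trivial_iff_coprod (X : C) :
    (∀ (σ : Aut F) (a : F.obj X), σ • a = a) ↔ ∃ n : ℕ, Nonempty (X ≅ ∐ fun _ : Fin n => ⊤_ C) := by
  constructor
  · intro h
    obtain ⟨n, ⟨e⟩⟩ := Finite.exists_equiv_fin (F.obj X)
    have hex : ∀ i : Fin n, ∃ s : ⊤_ C ⟶ X, ∀ t, F.map s t = e.symm i := fun i =>
      (fixed_iff_section F _).1 fun σ => h σ _
    choose s hs using hex
    let m : (∐ fun _ : Fin n => ⊤_ C) ⟶ X := Limits.Sigma.desc s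
    refine ⟨n, ⟨(@asIso _ _ _ _ m (isIso_of_bijective F m ⟨fun x y hxy => ?_, fun x => ?_⟩)).symm⟩⟩
    · obtain ⟨⟨i⟩, p, rfl⟩ := exists_rep F (Discrete.functor fun _ : Fin n => ⊤_ C) x
      obtain ⟨⟨j⟩, q, rfl⟩ := exists_rep F (Discrete.functor fun _ : Fin n => ⊤_ C) y
      change F.map m (F.map (Limits.Sigma.ι (fun _ : Fin n => ⊤_ C) i) p) =
        F.map m (F.map (Limits.Sigma.ι (fun _ : Fin n => ⊤_ C) j) q) at hxy
      rw [← map_comp', ← map_comp', colimit.ι_desc,
        colimit.ι_desc] at hxy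
      simp only [Cofan.mk_pt, Cofan.mk_ι_app, hs] at hxy
      obtain rfl := e.symm.injective hxy
      obtain rfl := subsingleton_top F p q
      rfl
    · refine ⟨F.map (Limits.Sigma.ι (fun _ : Fin n => ⊤_ C) (e x)) default, ?_⟩
      rw [← map_comp', colimit.ι_desc]
      simp [hs]
  · rintro ⟨n, ⟨i⟩⟩ σ a
    have hall : ∀ b : F.obj (∐ fun _ : Fin n => ⊤_ C), σ • b = b := fun b => by
      obtain ⟨⟨j⟩, p, rfl⟩ := exists_rep F (Discrete.functor fun _ : Fin n => ⊤_ C) b
      change σ • F.map (Limits.Sigma.ι (fun _ : Fin n => ⊤_ C) j) p = F.map (Limits.Sigma.ι _ j) p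
      rw [← map_smul, subsingleton_top F (σ • p) p]
    have hinj : Function.Injective (F.map i.hom) := mono_injective F i.hom
    exact hinj (by rw [map_smul, hall])

/-- An open subgroup is the stabiliser of a point of a connected object. -/
theorem exists_stabilizer_eq (U : Subgroup (Aut F)) (hU : IsOpen (U : Set (Aut F))) :
    ∃ (Q : C) (q : F.obj Q), IsConnected Q ∧ MulAction.stabilizer (Aut F) q = U := by
  obtain ⟨⟨A, a, hgal⟩, -, hle⟩ := (nhds_one_has_basis_stabilizers F).mem_iff.1 (hU.mem_nhds (one_mem U))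
  change (MulAction.stabilizer (Aut F) a : Set (Aut F)) ⊆ U at hle
  haveI := hgal
  let S : Subgroup (Aut A) :=
    { carrier := {f | ∃ σ ∈ U, F.map f.hom a = σ • a}
      one_mem' := ⟨1, one_mem U, by
        show F.map (𝟙 A) a = _
        rw [CategoryTheory.Functor.map_id, one_smul]; rfl⟩
      mul_mem' := by
        rintro f g ⟨σ, hσ, hf⟩ ⟨τ, hτ, hg⟩
        refine ⟨τ * σ, mul_mem hτ hσ, ?_⟩
        show F.map (g.hom ≫ f.hom) a = _
        rw [map_comp', hg, map_smul, hf, mul_smul]
      inv_mem' := by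
        rintro f ⟨σ, hσ, hf⟩
        refine ⟨σ⁻¹, inv_mem hσ, mono_injective F f.hom ?_⟩
        show F.map f.hom (F.map f.inv a) = _
        rw [← map_comp', f.inv_hom_id, CategoryTheory.Functor.map_id, map_smul, hf,
          inv_smul_smul]
        rfl }
  let J : SingleObj S ⥤ C := SingleObj.functor ((Aut.toEnd A).comp S.subtype)
  let π : A ⟶ colimit J := colimit.ι J (SingleObj.star S)
  have hsurj : Function.Surjective (F.map π) := fun x => by
    obtain ⟨j, y, hy⟩ := exists_rep F J x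
    exact ⟨y, hy⟩
  have hker : ∀ x y : F.obj A, F.map π x = F.map π y → ∃ f ∈ S, F.map f.hom x = y := fun x y hxy => by
    let K := J ⋙ F ⋙ FintypeCat.incl
    let e := preservesColimitIso (F ⋙ FintypeCat.incl) J
    have hι : ∀ z : F.obj A, e.hom (F.map π z) = colimit.ι K (SingleObj.star S) z := fun z =>
      ConcreteCategory.congr_hom (ι_preservesColimitIso_hom (F ⋙ FintypeCat.incl) J (SingleObj.star S)) z
    have h := congrArg (Limits.SingleObj.Types.colimitEquivQuotient K) ((hι x).symm.trans ((congrArg e.hom hxy).trans (hι y)))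
    simp only [Limits.SingleObj.Types.colimitEquivQuotient, Equiv.trans_apply, Types.colimitEquivColimitType_apply] at h
    obtain ⟨f, hf⟩ := (Quotient.exact h : MulAction.orbitRel S _ _ _)
    refine ⟨(f.1)⁻¹, S.inv_mem f.2, mono_injective F f.1.hom ?_⟩
    show F.map f.1.hom (F.map f.1.inv x) = _
    rw [← map_comp', f.1.inv_hom_id, CategoryTheory.Functor.map_id]
    exact hf.symm
  haveI : Nonempty (F.obj (colimit J)) := ⟨F.map π a⟩
  haveI : MulAction.IsPretransitive (Aut F) (F.obj (colimit J)) := ⟨fun x y => by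
    obtain ⟨x, rfl⟩ := hsurj x
    obtain ⟨y, rfl⟩ := hsurj y
    obtain ⟨σ, rfl⟩ := MulAction.exists_smul_eq (Aut F) x y
    exact ⟨σ, (map_smul F π σ x).symm⟩⟩
  refine ⟨colimit J, F.map π a, isConnected_of_transitive F _, Subgroup.ext fun σ => ⟨fun hσ => ?_, fun hσ => ?_⟩⟩
  · rw [MulAction.mem_stabilizer_iff, ← map_smul] at hσ
    obtain ⟨f, ⟨τ, hτ, hf⟩, hfx⟩ := hker _ _ hσ.symm
    have hst : τ⁻¹ * σ ∈ MulAction.stabilizer (Aut F) a := by
      rw [MulAction.mem_stabilizer_iff, mul_smul, ← hfx, hf, inv_smul_smul]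
    have := U.mul_mem hτ (hle hst)
    rwa [mul_inv_cancel_left] at this
  · rw [MulAction.mem_stabilizer_iff, ← map_smul]
    obtain ⟨f, hf⟩ := MulAction.exists_smul_eq (Aut A) a (σ • a)
    have hfS : f ∈ S := ⟨σ, hσ, hf⟩
    have hw : f.hom ≫ π = π := by
      have := colimit.w J (j := SingleObj.star S) (j' := SingleObj.star S) (⟨f, hfS⟩ : S)
      exact this
    rw [← hf]
    show F.map π (F.map f.hom a) = F.map π a
    rw [← map_comp', hw]

theorem mem_of_forall_exists {S : Set (Aut F)} (hS : IsClosed S) {σ : Aut F}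
    (h : ∀ X : PointedGaloisObject F, ∃ τ ∈ S, τ • X.pt = σ • X.pt) : σ ∈ S := by
  rw [← hS.closure_eq, mem_closure_iff_nhds]
  intro t ht
  have h1 : (fun x : Aut F => σ * x) ⁻¹' t ∈ nhds (1 : Aut F) :=
    (continuous_const_mul σ).continuousAt (by rw [mul_one]; exact ht)
  obtain ⟨X, -, hX⟩ := (nhds_one_has_basis_stabilizers F).mem_iff.1 h1
  obtain ⟨τ, hτ, hτX⟩ := h X
  refine ⟨τ, ?_, hτ⟩
  have h2 : σ⁻¹ * τ ∈ MulAction.stabilizer (Aut F) X.pt := by
    rw [MulAction.mem_stabilizer_iff, mul_smul, hτX, inv_smul_smul]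
  have h3 := hX h2
  rwa [Set.mem_preimage, mul_inv_cancel_left] at h3

theorem eq_one_of_forall_connected {σ : Aut F} (h : ∀ (X : C) (_ : IsConnected X) (a : F.obj X), σ • a = a) :
    σ = 1 := by
  refine Iso.ext (natTrans_ext_of_isGalois F fun X _ => ?_)
  ext (a : F.obj X)
  exact h X inferInstance a

end One

/-! ### Prorepresentability and uniqueness of fibre functors -/

section Unique

variable {C : Type u} [Category.{v} C] [GaloisCategory C] (F : C ⥤ FintypeCat.{w}) [FiberFunctor F]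

instance cofiltered_pointed : IsCofilteredOrEmpty (PointedGaloisObject F) where
  cone_objs := fun ⟨A, a, _⟩ ⟨B, b, _⟩ => by
    obtain ⟨Z, f, z, hgal, hfz⟩ := exists_hom_from_galois_of_fiber F (A ⨯ B)
      ((fiberBinaryProductEquiv F A B).symm (a, b))
    refine ⟨⟨Z, z, hgal⟩, ⟨f ≫ prod.fst, ?_⟩, ⟨f ≫ prod.snd, ?_⟩, trivial⟩
    · simp only [map_comp', hfz, fiberBinaryProductEquiv_symm_fst_apply]
    · simp only [map_comp', hfz, fiberBinaryProductEquiv_symm_snd_apply]
  cone_maps := fun ⟨A, a, _⟩ ⟨B, b, _⟩ ⟨f, hf⟩ ⟨g, hg⟩ => by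
    obtain ⟨Z, h, z, hgal, hhz⟩ := exists_hom_from_galois_of_fiber F A a
    refine ⟨⟨Z, z, hgal⟩, ⟨h, hhz⟩, PointedGaloisObject.hom_ext ?_⟩
    exact evaluation_injective_of_isConnected F Z B z (by simp [hhz, hf, hg])

theorem nonempty_iso_fiberFunctor (F' : C ⥤ FintypeCat.{w}) [PreservesFiniteLimits F']
    [PreservesColimitsOfShape (Discrete WalkingPair) F']
    (h : ∀ X : C, IsEmpty (F'.obj X) → Nonempty (IsInitial X)) : Nonempty (F' ≅ F) := by
  classical
  haveI : IsEmpty (F'.obj (⊥_ C)) := by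
    haveI : PreservesColimitsOfShape (Discrete WalkingPair) (F' ⋙ FintypeCat.incl) := inferInstance
    let e : F'.obj ((⊥_ C) ⨿ (⊥_ C)) ≃ F'.obj (⊥_ C) ⊕ F'.obj (⊥_ C) := Iso.toEquiv
      ((PreservesColimitPair.iso (F' ⋙ FintypeCat.incl) _ _).symm.trans (Types.binaryCoproductIso _ _))
    have hi : IsIso (coprod.inl : (⊥_ C) ⟶ (⊥_ C) ⨿ (⊥_ C)) :=
      ⟨⟨coprod.desc (𝟙 _) (𝟙 _), coprod.inl_desc _ _, coprod.hom_ext (initialIsInitial.hom_ext _ _) (initialIsInitial.hom_ext _ _)⟩⟩
    have hc := Nat.card_congr ((FintypeCat.equivEquivIso.symm (asIso (F'.map (coprod.inl : (⊥_ C) ⟶ _)))).trans e)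
    rw [Nat.card_sum] at hc
    exact Finite.card_eq_zero_iff.1 (by omega)
  haveI : PreservesFiniteCoproducts F' := by
    haveI : PreservesColimit (Functor.empty.{0} C) F' := preservesInitial_of_iso F'
      (initialIsInitial.uniqueUpToIso ((Concrete.initial_iff_empty_of_preserves_of_reflects _).2
        (inferInstance : IsEmpty (F'.obj (⊥_ C)))).some)
    haveI : PreservesColimitsOfShape (Discrete PEmpty.{1}) F' := preservesColimitsOfShape_pempty_of_preservesInitial F'
    exact ⟨fun n => PreservesFiniteCoproducts.of_preserves_binary_and_initial F' (Fin n)⟩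
  have hne : ∀ X : C, IsConnected X → Nonempty (F'.obj X) := fun X hX => not_isEmpty_iff.1 fun he =>
    hX.notInitial (h X he).some
  let P := PointedGaloisObject.incl F ⋙ F' ⋙ FintypeCat.incl
  haveI : ∀ j, Finite (P.obj j) := fun j => inferInstanceAs (Finite (F'.obj j.obj))
  haveI : ∀ j, Nonempty (P.obj j) := fun j => hne j.obj inferInstance
  obtain ⟨b, hb⟩ := nonempty_sections_of_finite_cofiltered_system P
  have hbc : ∀ {A B : PointedGaloisObject F} (f : A ⟶ B), F'.map f.val (b A) = b B := fun f => hb f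
  have hrep : ∀ (X : C) (x : F.obj X), ∃ (A : PointedGaloisObject F) (u : A.obj ⟶ X), F.map u A.pt = x :=
    fun X x => by
      obtain ⟨A, f, a, hA, hfa⟩ := exists_hom_from_galois_of_fiber F X x
      exact ⟨⟨A, a, hA⟩, f, hfa⟩
  choose A u hu using hrep
  have hwd : ∀ {X : C} (B B' : PointedGaloisObject F) (f : B.obj ⟶ X) (f' : B'.obj ⟶ X),
      F.map f B.pt = F.map f' B'.pt → F'.map f (b B) = F'.map f' (b B') := by
    intro X B B' f f' hff
    obtain ⟨D, g, g', -⟩ := IsCofilteredOrEmpty.cone_objs B B'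
    have he : g.val ≫ f = g'.val ≫ f' := evaluation_injective_of_isConnected F D.obj X D.pt (by
      simp only [map_comp', g.comp, g'.comp]
      exact hff)
    rw [← hbc g, ← hbc g', ← map_comp', ← map_comp', he]
  let t : ∀ X, F.obj X → F'.obj X := fun X x => F'.map (u X x) (b (A X x))
  have ht : ∀ (X : C) (B : PointedGaloisObject F) (f : B.obj ⟶ X), t X (F.map f B.pt) = F'.map f (b B) :=
    fun X B f => hwd _ _ _ _ (hu X _)
  have hinj : ∀ X, Function.Injective (t X) := fun X x x' hxx => by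
    obtain ⟨D, g, g', -⟩ := IsCofilteredOrEmpty.cone_objs (A X x) (A X x')
    have h1 : F.map (g.val ≫ u X x) D.pt = x := by rw [map_comp', g.comp, hu]
    have h2 : F.map (g'.val ≫ u X x') D.pt = x' := by rw [map_comp', g'.comp, hu]
    rw [← h1, ← h2, ht, ht] at hxx
    set p := g.val ≫ u X x
    set p' := g'.val ≫ u X x'
    haveI : PreservesLimit (parallelPair p p') (F' ⋙ FintypeCat.incl) := inferInstance
    let e : F'.obj (equalizer p p') ≃ {z : F'.obj D.obj // F'.map p z = F'.map p' z} :=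
      (PreservesEqualizer.iso (F' ⋙ FintypeCat.incl) p p' ≪≫
        Types.equalizerIso ((F' ⋙ FintypeCat.incl).map p) ((F' ⋙ FintypeCat.incl).map p')).toEquiv
    have hni : IsInitial (equalizer p p') → False := fun hI => by
      haveI : Nonempty (F'.obj (equalizer p p')) := ⟨e.symm ⟨b D, hxx⟩⟩
      have hI' : Nonempty (IsInitial (F'.obj (equalizer p p'))) := ⟨hI.isInitialObj F' _⟩
      rw [Concrete.initial_iff_empty_of_preserves_of_reflects] at hI'
      exact hI'.false (Classical.arbitrary _)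
    haveI := IsConnected.noTrivialComponent _ (equalizer.ι p p') hni
    rw [← h1, ← h2, eq_of_epi_equalizer (f := p) (g := p')]
  have hsurj : ∀ X, Function.Surjective (t X) := fun X y => by
    obtain ⟨B, a, hB, hbij⟩ := exists_galois_representative F X
    haveI := hB
    let D : PointedGaloisObject F := ⟨B, a, hB⟩
    have hbij' : ∀ α : F.obj B, Function.Bijective fun f : B ⟶ X => F.map f α := fun α => by
      obtain ⟨g, rfl⟩ := MulAction.exists_smul_eq (Aut B) a α
      let E : (B ⟶ X) ≃ (B ⟶ X) :=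
        { toFun := fun f => g.hom ≫ f, invFun := fun f => g.inv ≫ f
          left_inv := fun f => by simp, right_inv := fun f => by simp }
      have : (fun f : B ⟶ X => F.map f (g • a)) = (fun f : B ⟶ X => F.map f a) ∘ E :=
        funext fun f => (map_comp' F g.hom f a).symm
      rw [this]
      exact hbij.comp E.bijective
    let c : (∐ fun _ : B ⟶ X => B) ⟶ B ⨯ X := Limits.Sigma.desc fun f => prod.lift (𝟙 B) f
    haveI : IsIso c := by
      refine isIso_of_bijective F c ⟨fun p q hpq => ?_, fun p => ?_⟩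
      · obtain ⟨⟨i⟩, α, rfl⟩ := exists_rep F (Discrete.functor fun _ : B ⟶ X => B) p
        obtain ⟨⟨j⟩, β, rfl⟩ := exists_rep F (Discrete.functor fun _ : B ⟶ X => B) q
        change F.map c (F.map (Limits.Sigma.ι (fun _ : B ⟶ X => B) i) α) =
          F.map c (F.map (Limits.Sigma.ι (fun _ : B ⟶ X => B) j) β) at hpq
        rw [← map_comp', ← map_comp', colimit.ι_desc,
          colimit.ι_desc] at hpq
        simp only [Cofan.mk_pt, Cofan.mk_ι_app] at hpq
        have h1 := congrArg (F.map (prod.fst : B ⨯ X ⟶ B)) hpq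
        have h2 := congrArg (F.map (prod.snd : B ⨯ X ⟶ X)) hpq
        simp only [← map_comp', prod.lift_fst, prod.lift_snd, CategoryTheory.Functor.map_id,
          FintypeCat.id_apply] at h1 h2
        subst h1
        obtain rfl := (hbij' α).1 h2
        rfl
      · obtain ⟨⟨α, x⟩, rfl⟩ := (fiberBinaryProductEquiv F B X).symm.surjective p
        obtain ⟨f, hf⟩ := (hbij' α).2 x
        refine ⟨F.map (Limits.Sigma.ι (fun _ : B ⟶ X => B) f) α, (fiberBinaryProductEquiv F B X).injective ?_⟩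
        rw [Equiv.apply_symm_apply, ← map_comp', colimit.ι_desc]
        simp only [Cofan.mk_pt, Cofan.mk_ι_app]
        obtain ⟨⟨α', x'⟩, hax⟩ := (fiberBinaryProductEquiv F B X).symm.surjective (F.map (prod.lift (𝟙 B) f) α)
        rw [← hax, Equiv.apply_symm_apply]
        have h1 := congrArg (F.map (prod.fst : B ⨯ X ⟶ B)) hax
        have h2 := congrArg (F.map (prod.snd : B ⨯ X ⟶ X)) hax
        simp only [fiberBinaryProductEquiv_symm_fst_apply, fiberBinaryProductEquiv_symm_snd_apply,
          ← map_comp', prod.lift_fst, prod.lift_snd, CategoryTheory.Functor.map_id,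
          FintypeCat.id_apply] at h1 h2
        rw [h1, h2]
        exact congrArg (Prod.mk α) hf
    haveI : PreservesLimitsOfShape (Discrete WalkingPair) (F' ⋙ FintypeCat.incl) := inferInstance
    let e : F'.obj (B ⨯ X) ≃ F'.obj B × F'.obj X := Iso.toEquiv
      ((PreservesLimitPair.iso (F' ⋙ FintypeCat.incl) B X).trans (Types.binaryProductIso _ _))
    have hfst : ∀ z, F'.map (prod.fst : B ⨯ X ⟶ B) z = (e z).1 := fun z => by
      have := prodComparison_fst (F' ⋙ FintypeCat.incl) (A := B) (B := X)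
      exact ((Types.binaryProductIso_hom_comp_fst_apply _ _ _).trans (ConcreteCategory.congr_hom this z)).symm
    have hsnd : ∀ z, F'.map (prod.snd : B ⨯ X ⟶ X) z = (e z).2 := fun z => by
      have := prodComparison_snd (F' ⋙ FintypeCat.incl) (A := B) (B := X)
      exact ((Types.binaryProductIso_hom_comp_snd_apply _ _ _).trans (ConcreteCategory.congr_hom this z)).symm
    obtain ⟨z, hz⟩ : ∃ z, e z = (b D, y) := e.surjective _
    obtain ⟨q, hq⟩ : ∃ q, F'.map c q = z :=
      ⟨F'.map (inv c) z, by rw [← map_comp', IsIso.inv_hom_id, CategoryTheory.Functor.map_id]; rfl⟩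
    obtain ⟨⟨f⟩, β, rfl⟩ := exists_rep F' (Discrete.functor fun _ : B ⟶ X => B) q
    change F'.map c (F'.map (Limits.Sigma.ι (fun _ : B ⟶ X => B) f) β) = z at hq
    rw [← map_comp', colimit.ι_desc] at hq
    simp only [Cofan.mk_pt, Cofan.mk_ι_app] at hq
    have hb1 := hfst z
    have hb2 := hsnd z
    rw [hz, ← hq, ← map_comp'] at hb1 hb2
    simp only [prod.lift_fst, prod.lift_snd, CategoryTheory.Functor.map_id, FintypeCat.id_apply] at hb1 hb2
    refine ⟨F.map f a, (ht X D f).trans ?_⟩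
    rw [← hb1]
    exact hb2
  refine ⟨(NatIso.ofComponents (fun X => FintypeCat.equivEquivIso (Equiv.ofBijective (t X) ⟨hinj X, hsurj X⟩))
    fun {X Y} g => ?_).symm⟩
  ext x
  show t Y (F.map g x) = F'.map g (t X x)
  conv_lhs => rw [← hu X x, ← map_comp', ht]
  exact map_comp' F' _ _ _

end Unique

/-! ### The map of fundamental groups -/

section Map

variable {C C' : Type u} [Category.{v} C] [Category.{v} C'] [GaloisCategory C] [GaloisCategory C']
  (H : C ⥤ C') (F' : C' ⥤ FintypeCat.{w}) [FiberFunctor F'] [FiberFunctor (H ⋙ F')]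

theorem autWhisker_smul (σ : Aut F') (X : C) (a : (H ⋙ F').obj X) :
    Pi1X.autWhisker H F' σ • a = (σ • (show F'.obj (H.obj X) from a) : F'.obj (H.obj X)) := rfl

theorem continuous_autWhisker : Continuous (Pi1X.autWhisker H F') := by
  rw [(autEmbedding_isClosedEmbedding (H ⋙ F')).isInducing.continuous_iff, continuous_pi_iff]
  intro X
  exact (continuous_apply (H.obj X)).comp (autEmbedding_isClosedEmbedding F').continuous

theorem isClosed_range : IsClosed (Set.range (Pi1X.autWhisker H F')) :=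
  (isCompact_range (continuous_autWhisker H F')).isClosed

/-- Full and faithful functors preserve connectedness on fibres. -/
theorem transitive_of_full [H.Full] (X : C) [IsConnected X] (a a' : (H ⋙ F').obj X) :
    ∃ τ : Aut F', Pi1X.autWhisker H F' τ • a = a' := by
  classical
  by_contra hne
  let T2 : C := (⊤_ C) ⨿ (⊤_ C)
  have hcard : Nat.card ((H ⋙ F').obj T2) = 2 := by
    rw [card_fiber_coprod_eq_sum (H ⋙ F'), Nat.card_unique]
  obtain ⟨t0, t1, ht, -⟩ := Nat.card_eq_two_iff.1 hcard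
  have hfix : ∀ (σ : Aut (H ⋙ F')) (z : (H ⋙ F').obj T2), σ • z = z := fun σ z => by
    obtain ⟨⟨j⟩, p, rfl⟩ := exists_rep (H ⋙ F') (pair (⊤_ C) (⊤_ C)) z
    cases j <;>
    · refine (map_smul (H ⋙ F') _ σ p).symm.trans (congrArg _ ?_)
      exact subsingleton_top (H ⋙ F') (σ • p) p
  let φ : F'.obj (H.obj X) → F'.obj (H.obj T2) := fun x => if ∃ τ : Aut F', τ • (show F'.obj (H.obj X) from a) = x then t0 else t1
  obtain ⟨f, hf⟩ := exists_map_eq F' φ fun σ x => by
    refine Eq.trans ?_ (hfix (Pi1X.autWhisker H F' σ) (φ x)).symm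
    refine if_congr ⟨?_, ?_⟩ rfl rfl
    · rintro ⟨τ, hτ⟩; exact ⟨σ⁻¹ * τ, by rw [mul_smul, hτ, inv_smul_smul]⟩
    · rintro ⟨τ, hτ⟩; exact ⟨σ * τ, by rw [mul_smul, hτ]⟩
  obtain ⟨g, rfl⟩ := H.map_surjective f
  obtain ⟨σ, hσ⟩ := MulAction.exists_smul_eq (Aut (H ⋙ F')) a a'
  have h1 : φ a = t0 := if_pos ⟨1, one_smul _ _⟩
  have h2 : φ a' = t1 := if_neg hne
  refine ht ?_
  rw [← h1, ← h2, ← hf, ← hf, ← hσ]
  show (H ⋙ F').map g a = (H ⋙ F').map g (σ • a)
  rw [map_smul, hfix]

theorem surjective_of_transitive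
    (h : ∀ (X : C) (_ : IsConnected X) (a a' : (H ⋙ F').obj X), ∃ τ : Aut F', Pi1X.autWhisker H F' τ • a = a') :
    Function.Surjective (Pi1X.autWhisker H F') := fun σ =>
  mem_of_forall_exists (H ⋙ F') (isClosed_range H F') fun X => by
    obtain ⟨τ, hτ⟩ := h X.obj inferInstance X.pt (σ • X.pt)
    exact ⟨_, ⟨τ, rfl⟩, hτ⟩

theorem surjective_iff : Function.Surjective (Pi1X.autWhisker H F') ↔ (H.Full ∧ H.Faithful) := by
  constructor
  · intro hs
    refine ⟨⟨fun {X Y} f => ?_⟩, ⟨fun {X Y} f g hfg => ?_⟩⟩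
    · obtain ⟨g, hg⟩ := exists_map_eq (H ⋙ F') (X := X) (Y := Y) (fun x => F'.map f x) fun σ x => by
        obtain ⟨τ, rfl⟩ := hs σ
        exact map_smul F' f τ x
      exact ⟨g, hom_ext F' _ _ hg⟩
    · exact (H ⋙ F').map_injective (congrArg F'.map hfg)
  · rintro ⟨hf, -⟩
    exact surjective_of_transitive H F' fun X _ a a' => transitive_of_full H F' X a a'

/-- Domination of a connected object killed by the kernel. -/
theorem exists_dom_of_ker_le (X' : C') [IsConnected X'] (a' : F'.obj X')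
    (hker : (Pi1X.autWhisker H F').ker ≤ MulAction.stabilizer (Aut F') a') :
    ∃ (X : C) (Y' : C') (i : Y' ⟶ H.obj X) (q : Y' ⟶ X'), Mono i ∧ IsConnected Y' ∧ Epi q := by
  obtain ⟨A, hA⟩ : ∃ A : PointedGaloisObject (H ⋙ F'), ∀ τ : Aut F',
      Pi1X.autWhisker H F' τ • A.pt = A.pt → τ • a' = a' := by
    by_contra hne
    push Not at hne
    let T : PointedGaloisObject (H ⋙ F') → Set (Aut F') := fun A =>
      Pi1X.autWhisker H F' ⁻¹' (MulAction.stabilizer (Aut (H ⋙ F')) A.pt : Set _) ∩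
        (MulAction.stabilizer (Aut F') a' : Set (Aut F'))ᶜ
    have hclo : ∀ A, IsClosed (T A) := fun A =>
      (((⟨_, stabilizer_isOpen (Aut (H ⋙ F')) A.pt⟩ : OpenSubgroup _).isClosed).preimage
        (continuous_autWhisker H F')).inter (stabilizer_isOpen (Aut F') a').isClosed_compl
    obtain ⟨A₀, a₀, hA₀, -⟩ := exists_galois_representative (H ⋙ F') (⊤_ C)
    haveI : Nonempty (PointedGaloisObject (H ⋙ F')) := ⟨⟨A₀, a₀, hA₀⟩⟩
    obtain ⟨τ, hτ⟩ := IsCompact.nonempty_iInter_of_directed_nonempty_isCompact_isClosed T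
      (fun A B => by
        obtain ⟨D, g, g', -⟩ := IsCofilteredOrEmpty.cone_objs A B
        refine ⟨D, fun τ hτ => ⟨?_, hτ.2⟩, fun τ hτ => ⟨?_, hτ.2⟩⟩
        · show Pi1X.autWhisker H F' τ • A.pt = A.pt
          rw [← g.comp, ← map_smul, hτ.1]
        · show Pi1X.autWhisker H F' τ • B.pt = B.pt
          rw [← g'.comp, ← map_smul, hτ.1])
      (fun A => by
        obtain ⟨τ, h1, h2⟩ := hne A
        exact ⟨τ, h1, h2⟩)
      (fun A => (hclo A).isCompact) hclo
    rw [Set.mem_iInter] at hτ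
    refine (hτ (Classical.arbitrary _)).2 (hker ?_)
    rw [MonoidHom.mem_ker]
    refine mem_of_forall_exists (H ⋙ F') (S := {1}) isClosed_singleton fun X => ⟨1, rfl, ?_⟩
    rw [one_smul]
    exact ((hτ X).1).symm
  obtain ⟨Y', i, y, hc, hm, hy, hr⟩ := exists_component F' (H.obj A.obj) A.pt
  haveI := hc
  choose τ hτ using fun z : F'.obj Y' => MulAction.exists_smul_eq (Aut F') y z
  obtain ⟨q, hq⟩ := exists_map_eq F' (X := Y') (Y := X') (fun z => τ z • a') fun σ z => by
    have h1 : ((σ * τ z)⁻¹ * τ (σ • z)) • y = y := by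
      rw [mul_smul, hτ, inv_smul_eq_iff, mul_smul, hτ]
    have h2 := hA ((σ * τ z)⁻¹ * τ (σ • z)) (by
      show ((σ * τ z)⁻¹ * τ (σ • z)) • (show F'.obj (H.obj A.obj) from A.pt) = _
      rw [← hy, ← map_smul, h1])
    rw [mul_smul, inv_smul_eq_iff] at h2
    rw [h2, mul_smul]
  haveI : Nonempty (F'.obj Y') := ⟨y⟩
  exact ⟨A.obj, Y', i, q, hm, hc, epi_of_nonempty_of_isConnected F' q⟩

theorem ker_le_of_dom (X' : C') [IsConnected X'] (a' : F'.obj X') (X : C) (Y' : C') (i : Y' ⟶ H.obj X)
    (q : Y' ⟶ X') [Mono i] [Nonempty (F'.obj Y')] :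
    (Pi1X.autWhisker H F').ker ≤ MulAction.stabilizer (Aut F') a' := by
  intro τ hτ
  obtain ⟨y, rfl⟩ := surjective_of_nonempty_fiber_of_isConnected F' q a'
  rw [MulAction.mem_stabilizer_iff, ← map_smul]
  refine congrArg _ (mono_injective F' i ?_)
  rw [map_smul]
  show Pi1X.autWhisker H F' τ • (show (H ⋙ F').obj X from F'.map i y) = _
  rw [MonoidHom.mem_ker.1 hτ, one_smul]

end Map

end GrothLib.GalCat21
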