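import Groth.Agent.Lib.GalCat21.Basic
import Mathlib.Topology.Algebra.ClopenNhdofOne

set_option autoImplicit false

/-!
# Exact functors of Galois categories
-/

universe u v w

open CategoryTheory CategoryTheory.Limits CategoryTheory.PreGaloisCategory

namespace GrothLib.GalCat21

section

variable {C : Type u} [Category.{v} C] [GaloisCategory C]

theorem empty_initial (G : C ⥤ FintypeCat.{w}) [PreservesLimitsOfShape (Discrete PEmpty.{1}) G]
    [G.PreservesEpimorphisms] (X : C) (h : IsEmpty (G.obj X)) : Nonempty (IsInitial X) := by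
  let F₀ := GaloisCategory.getFiberFunctor C
  rw [initial_iff_fiber_empty F₀]
  by_contra hne
  haveI : Nonempty (F₀.obj X) := not_isEmpty_iff.1 hne
  have hf : Epi (terminal.from X) := epi_of_surjective F₀ _ fun t =>
    ⟨Classical.arbitrary _, subsingleton_top F₀ _ t⟩
  haveI : Epi (G.map (terminal.from X)) := G.map_epi _
  have hs : Function.Surjective (G.map (terminal.from X)) :=
    surjective_of_epi (FintypeCat.incl.map (G.map (terminal.from X)))
  haveI : PreservesLimitsOfShape (Discrete PEmpty.{1}) (G ⋙ FintypeCat.incl) := inferInstance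
  let hu : Unique (G.obj (⊤_ C)) :=
    (Types.isTerminalEquivUnique _).toFun (IsTerminal.isTerminalObj (G ⋙ FintypeCat.incl) _ terminalIsTerminal)
  obtain ⟨x, -⟩ := hs hu.default
  exact h.false x

theorem fiberFunctor_of_iso {F G : C ⥤ FintypeCat.{w}} [FiberFunctor F] (e : F ≅ G) : FiberFunctor G where
  preservesTerminalObjects := preservesLimitsOfShape_of_natIso e
  preservesPullbacks := preservesLimitsOfShape_of_natIso e
  preservesFiniteCoproducts := ⟨fun _ => preservesColimitsOfShape_of_natIso e⟩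
  preservesEpis := (Functor.preservesEpimorphisms.iso_iff e).1 inferInstance
  preservesQuotientsByFiniteGroups G _ _ := preservesColimitsOfShape_of_natIso e
  reflectsIsos := reflectsIsomorphisms_of_iso e

variable {D : Type u} [Category.{v} D] [GaloisCategory D]

/-- The composite of an exact functor with a fibre functor is a fibre functor. -/
theorem fiberFunctor_comp (H : C ⥤ D) [PreservesFiniteLimits H] [PreservesFiniteColimits H]
    (F' : D ⥤ FintypeCat.{v}) [FiberFunctor F'] : FiberFunctor (H ⋙ F') := by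
  haveI : H.PreservesEpimorphisms := inferInstance
  haveI : PreservesColimitsOfShape (Discrete WalkingPair) H := inferInstance
  haveI : PreservesColimitsOfShape (Discrete WalkingPair) F' := inferInstance
  haveI : PreservesFiniteLimits F' := inferInstance
  haveI : PreservesFiniteLimits (H ⋙ F') := comp_preservesFiniteLimits H F'
  obtain ⟨e⟩ := nonempty_iso_fiberFunctor (GaloisCategory.getFiberFunctor C) (H ⋙ F')
    fun X hX => empty_initial (H ⋙ F') X hX
  exact fiberFunctor_of_iso e.symm

end

section Map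

variable {C C' : Type u} [Category.{v} C] [Category.{v} C'] [GaloisCategory C] [GaloisCategory C']
  (H : C ⥤ C') (F' : C' ⥤ FintypeCat.{w}) [FiberFunctor F'] [FiberFunctor (H ⋙ F')]

/-- Connected objects killed by the kernel come from the source when the map is surjective. -/
theorem exists_preimage_of_connected (hs : Function.Surjective (Pi1X.autWhisker H F')) (Z : C') [IsConnected Z]
    (hker : ∀ τ ∈ (Pi1X.autWhisker H F').ker, ∀ z : F'.obj Z, τ • z = z) :
    ∃ Q : C, Nonempty (H.obj Q ≅ Z) := by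
  obtain ⟨z⟩ := nonempty_fiber_of_isConnected F' Z
  let U := (MulAction.stabilizer (Aut F') z).map (Pi1X.autWhisker H F')
  have hcl : IsClosed (U : Set (Aut (H ⋙ F'))) := by
    rw [Subgroup.coe_map]
    exact (((⟨_, stabilizer_isOpen (Aut F') z⟩ : OpenSubgroup _).isClosed).isCompact.image
      (continuous_autWhisker H F')).isClosed
  haveI : Finite (Aut F' ⧸ MulAction.stabilizer (Aut F') z) :=
    Subgroup.quotient_finite_of_isOpen _ (stabilizer_isOpen (Aut F') z)
  haveI : (MulAction.stabilizer (Aut F') z).FiniteIndex := Subgroup.finiteIndex_of_finite_quotient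
  haveI : U.FiniteIndex := ⟨fun h0 => (Subgroup.FiniteIndex.index_ne_zero (H := MulAction.stabilizer (Aut F') z))
    (Nat.eq_zero_of_zero_dvd (h0 ▸ (MulAction.stabilizer (Aut F') z).index_map_dvd hs))⟩
  obtain ⟨Q, q, hQ, hstab⟩ := exists_stabilizer_eq (H ⋙ F') U (Subgroup.isOpen_of_isClosed_of_finiteIndex U hcl)
  have hmem : ∀ τ : Aut F', τ • (show F'.obj (H.obj Q) from q) = q ↔ τ • z = z := fun τ => by
    show Pi1X.autWhisker H F' τ • q = q ↔ _
    rw [← MulAction.mem_stabilizer_iff, hstab]
    refine ⟨fun ⟨τ', h1, h2⟩ => ?_, fun h => ⟨τ, h, rfl⟩⟩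
    have hk : τ'⁻¹ * τ ∈ (Pi1X.autWhisker H F').ker := by
      rw [MonoidHom.mem_ker, map_mul, map_inv, h2, inv_mul_cancel]
    have h3 := hker _ hk z
    rwa [mul_smul, inv_smul_eq_iff, show τ' • z = z from h1] at h3
  choose τ hτ using fun x : F'.obj (H.obj Q) => (show ∃ t : Aut F', t • (show F'.obj (H.obj Q) from q) = x by
    obtain ⟨σ, hσ⟩ := MulAction.exists_smul_eq (Aut (H ⋙ F')) q x
    obtain ⟨t, rfl⟩ := hs σ
    exact ⟨t, hσ⟩)
  obtain ⟨f, hf⟩ := exists_map_eq F' (X := H.obj Q) (Y := Z) (fun x => τ x • z) fun σ x => by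
    have h1 := (hmem ((σ * τ x)⁻¹ * τ (σ • x))).1 (by rw [mul_smul, hτ, inv_smul_eq_iff, mul_smul, hτ])
    rw [mul_smul, inv_smul_eq_iff] at h1
    rw [h1, mul_smul]
  haveI : IsIso f := isIso_of_bijective F' f ⟨fun x y hxy => by
      rw [hf, hf, ← inv_smul_eq_iff, ← mul_smul, ← hmem, mul_smul, inv_smul_eq_iff, hτ, hτ] at hxy
      exact hxy,
    fun w => by
      obtain ⟨σ, rfl⟩ := MulAction.exists_smul_eq (Aut F') z w
      refine ⟨σ • (show F'.obj (H.obj Q) from q), ?_⟩
      rw [hf]
      have h1 := (hmem (σ⁻¹ * τ (σ • (show F'.obj (H.obj Q) from q)))).1 (by rw [mul_smul, hτ, inv_smul_smul])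
      rwa [mul_smul, inv_smul_eq_iff] at h1⟩
  exact ⟨Q, ⟨asIso f⟩⟩

theorem exists_preimage [PreservesFiniteColimits H] (hs : Function.Surjective (Pi1X.autWhisker H F')) (X' : C')
    (hker : ∀ τ ∈ (Pi1X.autWhisker H F').ker, ∀ z : F'.obj X', τ • z = z) :
    ∃ X : C, Nonempty (H.obj X ≅ X') := by
  obtain ⟨ι, hι, f, e, hc⟩ := has_decomp_connected_components' X'
  have hex : ∀ i, ∃ Q : C, Nonempty (H.obj Q ≅ f i) := fun i => by
    haveI := hc i
    refine exists_preimage_of_connected H F' hs (f i) fun τ hτ z => ?_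
    haveI : Mono (Limits.Sigma.ι f i ≫ e.hom) := mono_comp _ _
    refine mono_injective F' (Limits.Sigma.ι f i ≫ e.hom) ?_
    rw [map_smul, hker τ hτ]
  choose Q hQ using hex
  haveI := hι
  exact ⟨∐ Q, ⟨PreservesCoproduct.iso H Q ≪≫ Limits.Sigma.mapIso (fun i => (hQ i).some) ≪≫ e⟩⟩

theorem smul_eq_of_normal {G : Type*} [Group G] {α : Type*} [MulAction G α] [MulAction.IsPretransitive G α]
    {N : Subgroup G} [N.Normal] {a : α} (h : N ≤ MulAction.stabilizer G a) {n : G} (hn : n ∈ N) (b : α) : n • b = b := by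
  obtain ⟨g, rfl⟩ := MulAction.exists_smul_eq G a b
  have := h (Subgroup.Normal.conj_mem' (inferInstance : N.Normal) n hn g)
  rwa [MulAction.mem_stabilizer_iff, mul_smul, mul_smul, inv_smul_eq_iff] at this

end Map

end GrothLib.GalCat21
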