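import Mathlib.CategoryTheory.Action.Concrete
import Mathlib.CategoryTheory.Galois.Topology
import Mathlib.GroupTheory.Index
import Mathlib.GroupTheory.GroupAction.Quotient

/-!
# Finite `G`-sets: coset actions and orbit maps
-/

set_option autoImplicit false

universe u

open CategoryTheory

namespace GrothLib.GalCat21

variable {G : Type u} [Group G]

theorem rho_mul (X : Action FintypeCat.{u} G) (g h : G) (x : X.V) :
    (X.ρ (g * h)).hom x = (X.ρ g).hom ((X.ρ h).hom x) :=
  congrArg (fun f : End X.V => f.hom x) (map_mul X.ρ g h)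

theorem rho_one (X : Action FintypeCat.{u} G) (x : X.V) : (X.ρ 1).hom x = x :=
  congrArg (fun f : End X.V => f.hom x) (map_one X.ρ)

/-- The action on a finite `G`-set, as a homomorphism to permutations. -/
def permHom (X : Action FintypeCat.{u} G) : G →* Equiv.Perm X.V where
  toFun g :=
    { toFun := fun x => (X.ρ g).hom x
      invFun := fun x => (X.ρ g⁻¹).hom x
      left_inv := fun x => by
        change (X.ρ g⁻¹).hom ((X.ρ g).hom x) = x
        rw [← rho_mul, inv_mul_cancel, rho_one]
      right_inv := fun x => by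
        change (X.ρ g).hom ((X.ρ g⁻¹).hom x) = x
        rw [← rho_mul, mul_inv_cancel, rho_one] }
  map_one' := Equiv.ext fun x => rho_one X x
  map_mul' g h := Equiv.ext fun x => rho_mul X g h x

theorem permHom_apply (X : Action FintypeCat.{u} G) (g : G) (x : X.V) : permHom X g x = (X.ρ g).hom x := rfl

/-- The finite `G`-set of cosets of a subgroup of finite index. -/
noncomputable def cosetAct (N : Subgroup G) [N.FiniteIndex] : Action FintypeCat.{u} G :=
  Action.FintypeCat.ofMulAction G (FintypeCat.of (G ⧸ N))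

theorem cosetAct_ρ (N : Subgroup G) [N.FiniteIndex] (g h : G) :
    ((cosetAct N).ρ g).hom (QuotientGroup.mk h : G ⧸ N) = (QuotientGroup.mk (g * h) : G ⧸ N) := rfl

/-- The map from cosets onto an orbit of an action the subgroup of which fixes the point. -/
noncomputable def orbitHom (N : Subgroup G) [N.FiniteIndex] (X : Action FintypeCat.{u} G) (x : X.V)
    (h : ∀ n ∈ N, (X.ρ n).hom x = x) : cosetAct N ⟶ X where
  hom := FintypeCat.homMk (fun q : G ⧸ N => Quotient.liftOn' q (fun g => (X.ρ g).hom x) fun g g' hgg' => by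
    have hn := h _ (QuotientGroup.leftRel_apply.1 hgg')
    change (X.ρ g).hom x = (X.ρ g').hom x
    conv_rhs => rw [← mul_inv_cancel_left g g', rho_mul, hn])
  comm g := by
    ext q
    induction q using QuotientGroup.induction_on with
    | H a => exact rho_mul X g a x

theorem orbitHom_mk (N : Subgroup G) [N.FiniteIndex] (X : Action FintypeCat.{u} G) (x : X.V)
    (h : ∀ n ∈ N, (X.ρ n).hom x = x) (g : G) :
    (orbitHom N X x h).hom (QuotientGroup.mk g : G ⧸ N) = (X.ρ g).hom x := rfl

/-- Composition of automorphisms of a functor to finite sets. -/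
theorem aut_mul_app {C : Type*} [Category C] (F : C ⥤ FintypeCat.{u}) (σ τ : Aut F) (X : C) (x : F.obj X) :
    (σ * τ).hom.app X x = σ.hom.app X (τ.hom.app X x) := rfl

theorem aut_ext {C : Type*} [Category C] {F : C ⥤ FintypeCat.{u}} {σ τ : Aut F}
    (h : ∀ (X : C) (x : F.obj X), σ.hom.app X x = τ.hom.app X x) : σ = τ :=
  Iso.ext (NatTrans.ext (funext fun X => FintypeCat.hom_ext _ _ fun x => h X x))

open PreGaloisCategory in
/-- An abstract homomorphism into the automorphisms of a functor is dense when it matches every element on finitely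
many objects. -/
theorem denseRange_of_approx {C : Type*} [Category C] (F : C ⥤ FintypeCat.{u}) {H : Type*} (f : H → Aut F)
    (hf : ∀ (σ : Aut F) (J : Finset C), ∃ g, ∀ X ∈ J, ∀ x : F.obj X, (f g).hom.app X x = σ.hom.app X x) :
    DenseRange f := by
  rw [DenseRange, dense_iff_inter_open]
  rintro U ⟨V, hV, rfl⟩ ⟨σ, hσ⟩
  obtain ⟨J, W, hW, hWV⟩ := isOpen_pi_iff.1 hV _ hσ
  obtain ⟨g, hg⟩ := hf σ J
  refine ⟨f g, hWV fun X hX => ?_, g, rfl⟩
  have : autEmbedding F (f g) X = autEmbedding F σ X :=
    Iso.ext (FintypeCat.hom_ext _ _ fun x => hg X hX x)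
  rw [this]
  exact (hW X hX).2

end GrothLib.GalCat21
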